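import Cfsg.Agent.Lib.CT.Garrison

/-! Broline–Garrison: the case of a kernel which is not nilpotent. -/

set_option autoImplicit false
set_option linter.style.haveILetI false

namespace Cfsg.Agent.CT.BrolineGarrison

open Cfsg Subgroup

universe u

variable {G : Type u} [Group G] [Finite G]

theorem normal_kerChar {ψ : G → ℂ} (hψ : IsIrrCharacter G ψ) : (CT.kerChar ψ).Normal := by
  have hc := CT.isCharacter_of_isIrr hψ
  refine ⟨fun l hl g => ?_⟩
  rw [CT.mem_kerChar_iff hc] at hl ⊢
  rw [← hl]
  exact CT.isClassFunction_of_isIrr hψ l g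

/-- A kernel that is not nilpotent. -/
theorem exists_larger_of_not_nilpotent {χ : G → ℂ} (hχ : IsIrrCharacter G χ) (K : Subgroup G)
    [K.Normal] (hK : ∀ g : G, g ∈ K ↔ χ g = χ 1) (hnn : ¬ Group.IsNilpotent K) :
    ∃ ψ : IrrCharacter G, CT.deg χ < CT.deg (ψ : G → ℂ) ∧ CT.kerChar (ψ : G → ℂ) < K := by
  classical
  haveI := Fintype.ofFinite G
  have hχc := CT.isCharacter_of_isIrr hχ
  have hKχ : ∀ g : G, ∀ k ∈ K, χ (g * k) = χ g := fun g k hk =>
    (CT.mem_kerChar_iff hχc).mpr ((hK k).mp hk) g
  obtain ⟨p, hp, P, hPn⟩ : ∃ (p : ℕ) (_ : Fact p.Prime) (P : Sylow p K),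
      ¬ (P : Subgroup K).Normal := by
    by_contra h
    push Not at h
    exact hnn (((Group.isNilpotent_of_finite_tfae (G := K)).out 0 3 :).mpr fun p hp P => h p hp P)
  haveI := hp
  set P' := (P : Subgroup K).map K.subtype with hP'
  have hP'K : P' ≤ K := map_subtype_le _
  set H := Subgroup.normalizer (P' : Set G) with hH
  have hPH : P' ≤ H := le_normalizer
  have hHK : H ⊔ K = ⊤ := Sylow.normalizer_sup_eq_top P
  have hHne : H ≠ ⊤ := by
    intro h
    rw [hH, normalizer_eq_top_iff] at h
    exact hPn h.of_map_subtype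
  have hdec : ∀ g : G, ∃ k ∈ K, k⁻¹ * g ∈ H := by
    intro g
    have hg : g ∈ K ⊔ H := by rw [sup_comm, hHK]; trivial
    obtain ⟨k, hk, h, hh, rfl⟩ := mem_sup_of_normal_left.mp hg
    exact ⟨k, hk, by simpa using hh⟩
  -- the restriction to `H` is irreducible
  obtain ⟨χ', hχ', hχ'eq⟩ := CT.exists_quotient_irr hχ K fun k hk => (hK k).mp hk
  have hres : IsIrrCharacter H (fun h : H => χ h) := by
    have hsurj : Function.Surjective ((QuotientGroup.mk' K).comp H.subtype) := by
      intro x
      obtain ⟨g, rfl⟩ := QuotientGroup.mk'_surjective K x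
      obtain ⟨k, hk, hh⟩ := hdec g
      refine ⟨⟨k⁻¹ * g, hh⟩, ?_⟩
      simp [(QuotientGroup.eq_one_iff k).mpr hk]
    have := CT.isIrrCharacter_comp _ hsurj hχ'
    simpa [hχ'eq, Function.comp_def] using this
  have hind := CT.isCharacter_indFun H (CT.isCharacter_of_isIrr hres)
  -- a constituent of larger degree
  by_contra hcon
  push Not at hcon
  have hkey : ∀ ψ : IrrCharacter G, classInner (indFun H (fun h : H => χ h)) (ψ : G → ℂ) ≠ 0 →
      (ψ : G → ℂ) = χ := by
    intro ψ hψ
    have hψc := CT.isCharacter_of_isIrr ψ.2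
    have hψH := CT.isCharacter_restrict H hψc
    rw [CT.frobenius_reciprocity H _ (CT.isClassFunction_of_isIrr ψ.2),
      CT.classInner_comm_of_char (CT.isCharacter_of_isIrr hres) hψH] at hψ
    set L := CT.kerChar (ψ : G → ℂ) with hL
    haveI : L.Normal := normal_kerChar ψ.2
    have hcap : ∀ l ∈ L, l ∈ H → l ∈ K := fun l hl hlH => (hK l).mpr
      (Garrison.constituent_const hψH hres hψ (m := ⟨l, hlH⟩)
        ((CT.mem_kerChar_iff hψc).mp hl))
    have hLK : L ≤ K := by
      intro l hl
      set J := L ⊓ K ⊔ P' with hJ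
      have hP'J : P' ≤ J := le_sup_right
      have hJK : J ≤ K := sup_le inf_le_right hP'K
      have hconj : P'.map (MulAut.conj l).toMonoidHom ≤ J := by
        rintro _ ⟨x, hx, rfl⟩
        show l * x * l⁻¹ ∈ J
        have hc : l * x * l⁻¹ * x⁻¹ ∈ L ⊓ K := by
          refine ⟨?_, ?_⟩
          · have := L.mul_mem hl ((normal_kerChar ψ.2).conj_mem _ (L.inv_mem hl) x)
            simpa [mul_assoc] using this
          · exact K.mul_mem (Normal.conj_mem inferInstance x (hP'K hx) l) (K.inv_mem (hP'K hx))
        simpa using J.mul_mem (le_sup_left (a := L ⊓ K) hc) (hP'J hx)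
      have hcardP : Nat.card P' = p ^ (Nat.card J).factorization p := by
        have h1 : Nat.card P' = p ^ (Nat.card K).factorization p := by
          rw [hP', card_map_of_injective K.subtype_injective, P.card_eq_multiplicity]
        rw [h1]
        congr 1
        refine le_antisymm ?_ ?_
        · rw [← Nat.Prime.pow_dvd_iff_le_factorization hp.out Nat.card_pos.ne', ← h1]
          exact card_dvd_of_le hP'J
        · exact (Nat.factorization_le_iff_dvd Nat.card_pos.ne' Nat.card_pos.ne').mpr
            (card_dvd_of_le hJK) p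
      let S1 : Sylow p J := Sylow.ofCard (P'.subgroupOf J) (by
        rw [Nat.card_congr (subgroupOfEquivOfLe hP'J).toEquiv, hcardP])
      let S2 : Sylow p J := Sylow.ofCard ((P'.map (MulAut.conj l).toMonoidHom).subgroupOf J) (by
        rw [Nat.card_congr (subgroupOfEquivOfLe hconj).toEquiv,
          card_map_of_injective (MulAut.conj l).injective, hcardP])
      obtain ⟨j, hj⟩ := MulAction.exists_smul_eq J S1 S2
      have hj' : ((j : G))⁻¹ * l ∈ H := by
        rw [hH, mem_normalizer_iff]
        intro x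
        have hmem : ∀ y : J, (y : G) ∈ P'.map (MulAut.conj l).toMonoidHom ↔
            (j : G)⁻¹ * y * j ∈ P' := by
          intro y
          have h2 : y ∈ (S2 : Subgroup J) ↔ j⁻¹ * y * j ∈ (S1 : Subgroup J) := by
            rw [← hj]
            simp [Sylow.coe_subgroup_smul, mem_pointwise_smul_iff_inv_smul_mem, mul_assoc]
          simpa [S1, S2, mem_subgroupOf] using h2
        constructor
        · intro hx
          have := (hmem ⟨_, hconj ⟨x, hx, rfl⟩⟩).mp ⟨x, hx, rfl⟩
          simpa [mul_assoc] using this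
        · intro hx
          have hxJ : l * x * l⁻¹ ∈ J := by
            have := J.mul_mem (J.mul_mem j.2 (hP'J hx)) (J.inv_mem j.2)
            simpa [mul_assoc] using this
          obtain ⟨x', hx', he⟩ := (hmem ⟨_, hxJ⟩).mpr (by simpa [mul_assoc] using hx)
          have : x' = x := by simpa using he
          exact this ▸ hx'
      obtain ⟨m, hm, x, hx, hmx⟩ := mem_sup_of_normal_left.mp j.2
      have h1 : m⁻¹ * l ∈ H := by
        have := H.mul_mem (hPH hx) hj'
        rw [← hmx] at this
        simpa [mul_assoc] using this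
      have h2 := hcap _ (L.mul_mem (L.inv_mem hm.1) hl) h1
      simpa using K.mul_mem hm.2 h2
    have heqH : CT.deg (ψ : G → ℂ) ≤ CT.deg χ → ∀ h : H, (ψ : G → ℂ) h = χ h := by
      intro hle h
      exact congrFun (CT.eq_of_deg_le hψH hres hψ (by simpa [CT.deg] using hle)) h
    have hall : K ≤ L → CT.deg (ψ : G → ℂ) ≤ CT.deg χ → (ψ : G → ℂ) = χ := by
      intro hKL hle
      funext g
      obtain ⟨k, hk, hh⟩ := hdec g
      have hk' : (k⁻¹ * g)⁻¹ * k * (k⁻¹ * g) ∈ K := by
        have := Normal.conj_mem (inferInstance : K.Normal) k hk (k⁻¹ * g)⁻¹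
        simpa using this
      have he : g = (k⁻¹ * g) * ((k⁻¹ * g)⁻¹ * k * (k⁻¹ * g)) := by group
      rw [he, hKχ _ _ hk', (hKL hk') (k⁻¹ * g)]
      exact heqH hle ⟨_, hh⟩
    by_cases hle : CT.deg (ψ : G → ℂ) ≤ CT.deg χ
    · refine hall ?_ hle
      have hPL : P' ≤ L := fun x hx => by
        rw [hL, CT.mem_kerChar_iff hψc]
        have h1 : (ψ : G → ℂ) x = χ x := heqH hle ⟨x, hPH hx⟩
        rw [h1, (hK x).mp (hP'K hx)]
        exact (heqH hle 1).symm
      intro k hk
      have hcardP : Nat.card P' = p ^ (Nat.card L).factorization p := by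
        have h1 : Nat.card P' = p ^ (Nat.card K).factorization p := by
          rw [hP', card_map_of_injective K.subtype_injective, P.card_eq_multiplicity]
        rw [h1]
        congr 1
        refine le_antisymm ?_ ?_
        · rw [← Nat.Prime.pow_dvd_iff_le_factorization hp.out Nat.card_pos.ne', ← h1]
          exact card_dvd_of_le hPL
        · exact (Nat.factorization_le_iff_dvd Nat.card_pos.ne' Nat.card_pos.ne').mpr
            (card_dvd_of_le hLK) p
      have hfr := Sylow.normalizer_sup_eq_top (Sylow.ofCard (P'.subgroupOf L) (by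
        rw [Nat.card_congr (subgroupOfEquivOfLe hPL).toEquiv, hcardP]))
      rw [Sylow.coe_ofCard, map_subgroupOf_eq_of_le hPL, ← hH, sup_comm] at hfr
      obtain ⟨l, hl, h, hh, rfl⟩ := mem_sup_of_normal_left.mp (hfr.ge (mem_top k))
      refine L.mul_mem hl ?_
      have hhK : h ∈ K := by simpa using K.mul_mem (K.inv_mem (hLK hl)) hk
      rw [hL, CT.mem_kerChar_iff hψc]
      have h1 : (ψ : G → ℂ) h = χ h := heqH hle ⟨h, hh⟩
      rw [h1, (hK h).mp hhK]
      exact (heqH hle 1).symm
    · push Not at hle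
      exfalso
      refine hcon ψ hle ((lt_of_le_of_ne hLK) fun hLeq => ?_)
      -- `ψ` is trivial on `K`, so its restriction to `H` is irreducible
      obtain ⟨ψ', hψ', hψ'eq⟩ := CT.exists_quotient_irr ψ.2 K fun k hk =>
        (CT.mem_kerChar_iff hψc).mp (hLeq.ge hk)
      have hresψ : IsIrrCharacter H (fun h : H => (ψ : G → ℂ) h) := by
        have hsurj : Function.Surjective ((QuotientGroup.mk' K).comp H.subtype) := by
          intro x
          obtain ⟨g, rfl⟩ := QuotientGroup.mk'_surjective K x
          obtain ⟨k, hk, hh⟩ := hdec g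
          refine ⟨⟨k⁻¹ * g, hh⟩, ?_⟩
          simp [(QuotientGroup.eq_one_iff k).mpr hk]
        have := CT.isIrrCharacter_comp _ hsurj hψ'
        simpa [hψ'eq, Function.comp_def] using this
      have := congrFun (Decidable.not_not.mp fun e => hψ (CT.irr_inner_of_ne hresψ hres e)) 1
      have h2 : (ψ : G → ℂ) 1 = χ 1 := this
      simp [CT.deg, h2] at hle
  -- hence `χ` is the whole induced character
  have hne : classInner (indFun H (fun h : H => χ h)) χ = 1 := by
    rw [CT.frobenius_reciprocity H _ (CT.isClassFunction_of_isIrr hχ)]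
    exact CT.irr_inner_self hres
  have hm : 1 ≤ CT.mult (indFun H (fun h : H => χ h)) χ := by
    rw [Nat.one_le_iff_ne_zero]
    intro h
    rw [CT.mult_spec hind hχc, h, Nat.cast_zero] at hne
    exact zero_ne_one hne
  have hR := CT.isCharacter_sub_constituent hind hχ hm
  rw [Nat.cast_one, one_smul] at hR
  have hR0 : indFun H (fun h : H => χ h) - χ = 0 := by
    by_contra hne0
    obtain ⟨ψ, hψ⟩ := CT.exists_constituent hR hne0
    have hsplit : classInner (indFun H (fun h : H => χ h)) (ψ : G → ℂ) =
        classInner (indFun H (fun h : H => χ h) - χ) (ψ : G → ℂ) +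
          classInner χ (ψ : G → ℂ) := by
      rw [← CT.classInner_add_left, sub_add_cancel]
    have hψc := CT.isCharacter_of_isIrr ψ.2
    have h1 : classInner (indFun H (fun h : H => χ h)) (ψ : G → ℂ) ≠ 0 := by
      intro h0
      rw [h0, CT.mult_spec hR hψc, CT.mult_spec hχc hψc, eq_comm] at hsplit
      rw [CT.mult_spec hR hψc] at hψ
      have : CT.mult (indFun H (fun h : H => χ h) - χ) (ψ : G → ℂ) +
          CT.mult χ (ψ : G → ℂ) = 0 := by exact_mod_cast hsplit
      exact hψ (by rw [Nat.eq_zero_of_add_eq_zero_right this, Nat.cast_zero])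
    rw [hkey ψ h1] at hψ
    apply hψ
    have h2 : indFun H (fun h : H => χ h) = (indFun H (fun h : H => χ h) - χ) + χ := by
      rw [sub_add_cancel]
    rw [h2, CT.classInner_add_left, CT.irr_inner_self hχ] at hne
    exact add_eq_right.mp hne
  have hdeg := congrFun (sub_eq_zero.mp hR0) 1
  rw [CT.indFun_one_eval] at hdeg
  have h1 : (H.index : ℂ) = 1 := by
    refine mul_right_cancel₀ (CT.irr_one_ne_zero hχ) ?_
    rw [one_mul]
    exact hdeg
  exact hHne (index_eq_one.mp (by exact_mod_cast h1))

end Cfsg.Agent.CT.BrolineGarrison
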