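import Cfsg.Agent.Lib.CT.Garrison
import Cfsg.Agent.Lib.Basics.Cores

/-! Broline–Garrison: a linear character of a self-centralising abelian Fitting subgroup whose
stabiliser misses the abelian normal subgroup `F(Q) ∩ C(F(Q))` of the quotient. -/

set_option autoImplicit false
set_option linter.style.haveILetI false

namespace Cfsg.Agent.CT.BrolineGarrison

open Cfsg Subgroup
open scoped IsMulCommutative

universe u

variable {G : Type u} [Group G] [Finite G]

/-- The centre of the Fitting subgroup of the quotient. -/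
def top (Q : Type u) [Group Q] : Subgroup Q :=
  Cfsg.fittingSubgroup Q ⊓ Subgroup.centralizer (Cfsg.fittingSubgroup Q : Set Q)

theorem top_comm {Q : Type u} [Group Q] {a b : Q} (ha : a ∈ top Q) (hb : b ∈ top Q) :
    a * b = b * a := mem_centralizer_iff.mp hb.2 a ha.1

theorem fitting_normal (Q : Type u) [Group Q] [Finite Q] : (Cfsg.fittingSubgroup Q).Normal := by
  refine ⟨fun x hx g => ?_⟩
  have h : (Cfsg.fittingSubgroup Q).map (MulAut.conj g).toMonoidHom ≤ Cfsg.fittingSubgroup Q := by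
    rw [Cfsg.fittingSubgroup, sSup_eq_iSup', Subgroup.map_iSup]
    refine iSup_le fun N => le_trans ?_ (le_iSup _ N)
    rintro _ ⟨y, hy, rfl⟩
    exact N.2.1.conj_mem y hy g
  exact h ⟨x, hx, rfl⟩

theorem top_normal (Q : Type u) [Group Q] [Finite Q] : (top Q).Normal := by
  haveI := fitting_normal Q
  exact normal_inf_normal _ _

/-- Every minimal normal subgroup of a solvable group lies in `top`. -/
theorem minimal_le_top {Q : Type u} [Group Q] [Finite Q] [Group.IsSolvable Q] {N : Subgroup Q}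
    [N.Normal] (hN : N ≠ ⊥) (hmin : ∀ K : Subgroup Q, K.Normal → K ≤ N → K = ⊥ ∨ K = N) :
    N ≤ top Q := by
  obtain ⟨habN, p, hp, -, hNp⟩ := Basics.minimal_normal_solvable hN inferInstance hmin
  haveI := Fact.mk hp
  have hNF : N ≤ Cfsg.fittingSubgroup Q := Basics.le_fittingSubgroup hNp.isNilpotent
  refine le_inf hNF ?_
  haveI := fitting_normal Q
  set F := Cfsg.fittingSubgroup Q with hF
  rcases hmin ⁅N, F⁆ inferInstance (commutator_le_left _ _) with h | h
  · exact commutator_eq_bot_iff_le_centralizer.mp h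
  · exfalso
    obtain ⟨n, hn⟩ := (Subgroup.isNilpotent_iff_lowerCentralSeries F).mp
      (by rw [hF]; infer_instance)
    have hk : ∀ k, N ≤ Subgroup.lowerCentralSeries F k := by
      intro k
      induction k with
      | zero => simpa using hNF
      | succ k ih =>
        rw [Subgroup.lowerCentralSeries_succ]
        exact h.ge.trans (commutator_mono ih le_rfl)
    exact hN (le_bot_iff.mp (hn ▸ hk n))

theorem exists_inf_top_ne_bot {Q : Type u} [Group Q] [Finite Q] [Group.IsSolvable Q]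
    {L : Subgroup Q} [L.Normal] (hL : L ≠ ⊥) : ∃ x ∈ L, x ∈ top Q ∧ x ≠ 1 := by
  obtain ⟨N, hNn, hNL, hN, hmin⟩ := Basics.exists_minimal_normal hL
  haveI := hNn
  obtain ⟨x, hx, hx1⟩ := (Subgroup.ne_bot_iff_exists_ne_one.mp hN : ∃ a : N, a ≠ 1) |>
    fun ⟨a, ha⟩ => (⟨a.1, a.2, fun e => ha (Subtype.ext e)⟩ : ∃ x, x ∈ N ∧ x ≠ 1)
  exact ⟨x, hNL hx, minimal_le_top hN hmin hx, hx1⟩

/-- Gluing the regular vectors of the primary components. -/
theorem exists_glue {Q : Type u} [Group Q] [Finite Q] (A0 : Subgroup Q)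
    (hA0 : ∀ a ∈ A0, ∀ b ∈ A0, a * b = b * a) {X : Type*} [CommGroup X] [Finite X]
    (σ : Q → X →* X) (hσ1 : ∀ k, σ 1 k = k) (hσmul : ∀ a b k, σ (a * b) k = σ a (σ b k)) :
    ∃ l : X, ∀ x ∈ A0, σ x l = l → ∀ q : ℕ, q.Prime → ∀ k : X,
      σ (x ^ ordCompl[q] (Nat.card Q)) (k ^ ordProj[q] (Nat.card X)) =
        k ^ ordProj[q] (Nat.card X) := by
  classical
  set n := Nat.card X with hn
  have hn0 : n ≠ 0 := Nat.card_pos.ne'
  set N := Nat.card Q with hNdef
  have hN0 : N ≠ 0 := Nat.card_pos.ne'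
  -- one regular component for each prime
  have hreg : ∀ r : ℕ, r.Prime → ∃ m : X, m ^ ordProj[r] n = 1 ∧
      ∀ x ∈ A0, x ^ ordCompl[r] N = 1 → σ x m = m →
        ∀ k : X, k ^ ordProj[r] n = 1 → σ x k = k := by
    intro r hr
    haveI := Fact.mk hr
    let A : Subgroup (Q) :=
      { carrier := {x | x ∈ A0 ∧ x ^ ordCompl[r] N = 1}
        one_mem' := ⟨one_mem _, one_pow _⟩
        mul_mem' := fun {a b} ha hb => ⟨mul_mem ha.1 hb.1, by
          have hc : Commute a b := hA0 a ha.1 b hb.1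
          rw [hc.mul_pow, ha.2, hb.2, one_mul]⟩
        inv_mem' := fun {a} ha => ⟨inv_mem ha.1, by rw [inv_pow, ha.2, inv_one]⟩ }
    let W : Subgroup (X) := (powMonoidHom (ordProj[r] n)).ker
    have hWmem : ∀ k, k ∈ W ↔ k ^ ordProj[r] n = 1 := fun k => Iff.rfl
    have hWi : ∀ (a : A) (k : W), σ a k ∈ W := fun a k => by
      exact ((hWmem _).mpr ((map_pow (σ a) (k : X) _).symm.trans
        ((congrArg (σ (a : Q)) ((hWmem _).mp k.2)).trans (map_one _))))
    let σ' : A → W →* W := fun a => ((σ a).comp W.subtype).codRestrict W (hWi a)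
    have hW : IsPGroup r W := fun k => ⟨n.factorization r, Subtype.ext k.2⟩
    have hcop : (Nat.card A).Coprime (Nat.card W) := by
      obtain ⟨e, he⟩ := hW.exists_card_eq
      rw [he]
      refine Nat.Coprime.pow_right _ (Nat.Coprime.symm ((Nat.Prime.coprime_iff_not_dvd hr).mpr ?_))
      intro hdvd
      obtain ⟨a, ha⟩ := exists_prime_orderOf_dvd_card' r hdvd
      have h1 : a ^ ordCompl[r] N = 1 := Subtype.ext a.2.2
      have h2 := orderOf_dvd_of_pow_eq_one h1
      rw [ha] at h2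
      exact Nat.not_dvd_ordCompl hr hN0 h2
    obtain ⟨m, -, hm⟩ := Garrison.exists_regular (fun a b : A => Subtype.ext (hA0 _ a.2.1 _ b.2.1))
      σ' (fun k => Subtype.ext (hσ1 _)) (fun a b k => Subtype.ext (hσmul _ _ _)) hcop ⊤
      (fun _ _ _ => mem_top _)
    refine ⟨m, m.2, fun x hx hxN hfix k hk => ?_⟩
    exact congrArg Subtype.val (hm ⟨x, hx, hxN⟩ (Subtype.ext hfix) ⟨k, hk⟩ (mem_top _))
  choose! c hc1 hc2 using hreg
  -- glue them
  set l := ∏ r ∈ n.primeFactors, c r with hl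
  refine ⟨l, fun x hxtop hxfix => ?_⟩
  have hpowfix : ∀ (j : ℕ), σ (x ^ j) l = l := by
    intro j
    induction j with
    | zero => rw [pow_zero, hσ1]
    | succ j ih => rw [pow_succ, hσmul, hxfix, ih]
  -- each primary component of the fixed character is fixed
  have hcomp : ∀ (y : Q), σ y l = l → ∀ r ∈ n.primeFactors, σ y (c r) = c r := by
    intro y hy r hr
    have hrp := (Nat.mem_primeFactors.mp hr).1
    have hpow : l ^ ordCompl[r] n = c r ^ ordCompl[r] n := by
      rw [hl, ← Finset.prod_pow]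
      refine Finset.prod_eq_single_of_mem r hr fun s hs hsr => ?_
      have hsp := (Nat.mem_primeFactors.mp hs).1
      have hcop : (ordProj[s] n).Coprime (ordProj[r] n) :=
        Nat.Coprime.pow _ _ ((Nat.coprime_primes hsp hrp).mpr hsr)
      have hdvd : ordProj[s] n ∣ ordCompl[r] n := by
        refine hcop.dvd_of_dvd_mul_left ?_
        rw [Nat.ordProj_mul_ordCompl_eq_self]
        exact Nat.ordProj_dvd n s
      obtain ⟨k, hk⟩ := hdvd
      rw [hk, pow_mul, hc1 s hsp]
      exact one_pow _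
    have hcop : (ordCompl[r] n).Coprime (orderOf (c r)) :=
      Nat.Coprime.coprime_dvd_right (orderOf_dvd_of_pow_eq_one (hc1 r hrp))
        (Nat.Coprime.pow_right _ (Nat.coprime_ordCompl hrp hn0).symm)
    obtain ⟨j, hj⟩ := exists_pow_eq_self_of_coprime hcop
    calc σ y (c r) = σ y ((l ^ ordCompl[r] n) ^ j) := by rw [hpow, hj]
      _ = (l ^ ordCompl[r] n) ^ j := (map_pow (σ y) _ j).trans
          (congrArg (· ^ j) ((map_pow (σ y) l _).trans (congrArg (· ^ ordCompl[r] n) hy)))
      _ = c r := by rw [hpow, hj]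
  intro q hqp k0
  set y : Q := x ^ ordCompl[q] N with hy
  have hytop : y ∈ A0 := pow_mem hxtop _
  have hyq : y ^ ordProj[q] N = 1 := by
    rw [hy, ← pow_mul, mul_comm, Nat.ordProj_mul_ordCompl_eq_self]
    exact pow_card_eq_one'
  have hyfix : ∀ r ∈ n.primeFactors, r ≠ q → ∀ k : X, k ^ ordProj[r] n = 1 → σ y k = k := by
    intro r hr hrq
    have hrp := (Nat.mem_primeFactors.mp hr).1
    refine hc2 r hrp y hytop ?_ (hcomp y (hpowfix _) r hr)
    have hcop : (ordProj[q] N).Coprime (ordProj[r] N) :=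
      Nat.Coprime.pow _ _ ((Nat.coprime_primes hqp hrp).mpr (Ne.symm hrq))
    have hdvd : ordProj[q] N ∣ ordCompl[r] N := by
      refine hcop.dvd_of_dvd_mul_left ?_
      rw [Nat.ordProj_mul_ordCompl_eq_self]
      exact Nat.ordProj_dvd N q
    obtain ⟨k, hk⟩ := hdvd
    rw [hk, pow_mul, hyq, one_pow]
  -- `y` fixes every character of order prime to `q`
  suffices hfixq : ∀ k : X, σ y (k ^ ordProj[q] n) = k ^ ordProj[q] n from hfixq k0
  intro k
  set m := k ^ ordProj[q] n with hm
  let Fx : Subgroup (X) :=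
    { carrier := {k | σ y k = k}
      one_mem' := map_one _
      mul_mem' := fun {a b} (ha : σ y a = a) (hb : σ y b = b) => by
        show σ y (a * b) = a * b
        rw [map_mul, ha, hb]
      inv_mem' := fun {a} (ha : σ y a = a) => by
        show σ y a⁻¹ = a⁻¹
        exact (map_inv (σ y) a).trans (congrArg _ ha) }
  show m ∈ Fx
  rw [← QuotientGroup.eq_one_iff, ← orderOf_eq_one_iff]
  by_contra he
  obtain ⟨r, hrp, hre⟩ := Nat.exists_prime_and_dvd he
  have hm1 : m ^ ordCompl[q] n = 1 := by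
    rw [hm, ← pow_mul, Nat.ordProj_mul_ordCompl_eq_self]
    exact pow_card_eq_one'
  have hrk : r ∣ ordCompl[q] n := hre.trans ((orderOf_map_dvd (QuotientGroup.mk' Fx) m).trans
    (orderOf_dvd_of_pow_eq_one hm1))
  have hrq : r ≠ q := fun e => Nat.not_dvd_ordCompl hqp hn0 (e ▸ hrk)
  have hrn : r ∈ n.primeFactors :=
    Nat.mem_primeFactors.mpr ⟨hrp, hrk.trans (Nat.ordCompl_dvd n q), hn0⟩
  have hmem : m ^ ordCompl[r] (ordCompl[q] n) ∈ Fx := by
    refine hyfix r hrn hrq _ ?_
    obtain ⟨t, ht⟩ := Nat.ordProj_dvd_ordProj_of_dvd hn0 (Nat.ordCompl_dvd n q) r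
    rw [ht, pow_mul, ← pow_mul m, mul_comm (ordCompl[r] (ordCompl[q] n)),
      Nat.ordProj_mul_ordCompl_eq_self, hm1, one_pow]
  have hd : orderOf (QuotientGroup.mk' Fx m) ∣ ordCompl[r] (ordCompl[q] n) :=
    orderOf_dvd_of_pow_eq_one (by rw [← map_pow]; exact (QuotientGroup.eq_one_iff _).mpr hmem)
  exact Nat.not_dvd_ordCompl hrp (Nat.ordCompl_pos q hn0).ne' (hre.trans hd)

/-- The central choice: a linear character of `V` whose stabiliser meets the preimage of
`top (G ⧸ V)` in `V`. -/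
theorem exists_lambda (V : Subgroup G) [V.Normal] (hVc : ∀ a b : V, a * b = b * a)
    (hnil : ∀ N : Subgroup G, N.Normal → Group.IsNilpotent N → N ≤ V) :
    ∃ l : V →* ℂˣ, ∀ x : G, (x : G ⧸ V) ∈ top (G ⧸ V) → x ∈ TwoDeg.St V l → x ∈ V := by
  classical
  haveI : IsMulCommutative V := ⟨⟨hVc⟩⟩
  haveI := top_normal (G ⧸ V)
  have hcardΛ : Nat.card (V →* ℂˣ) = Nat.card V :=
    CommGroup.card_monoidHom_of_hasEnoughRootsOfUnity V ℂ
  haveI : Finite (V →* ℂˣ) := Nat.finite_of_card_ne_zero (by rw [hcardΛ]; exact Nat.card_pos.ne')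
  set n := Nat.card (V →* ℂˣ) with hn
  have hn0 : n ≠ 0 := Nat.card_pos.ne'
  set N := Nat.card (G ⧸ V) with hNdef
  have hN0 : N ≠ 0 := Nat.card_pos.ne'
  -- the action of the quotient on linear characters
  let σ : G ⧸ V → ((V →* ℂˣ) →* (V →* ℂˣ)) := fun a =>
    MonoidHom.mk' (TwoDeg.act V (Quotient.out a)⁻¹) (TwoDeg.act_hom_mul V _)
  have hσ : ∀ (g : G) (m : V →* ℂˣ), σ (g : G ⧸ V) m = TwoDeg.act V g⁻¹ m := by
    intro g m
    obtain ⟨v, hv⟩ := QuotientGroup.mk_out_eq_mul V g
    show TwoDeg.act V (Quotient.out (g : G ⧸ V))⁻¹ m = _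
    rw [hv, mul_inv_rev, TwoDeg.act_mul,
      (TwoDeg.mem_St V).mp (TwoDeg.le_St V hVc m (V.inv_mem v.2))]
  have hσ1 : ∀ m, σ 1 m = m := fun m => by
    rw [← QuotientGroup.mk_one, hσ, inv_one, TwoDeg.act_one]
  have hσmul : ∀ a b m, σ (a * b) m = σ a (σ b m) := by
    intro a b m
    induction a using QuotientGroup.induction_on with | _ a =>
    induction b using QuotientGroup.induction_on with | _ b =>
    rw [← QuotientGroup.mk_mul, hσ, hσ, hσ, mul_inv_rev, TwoDeg.act_mul]
  obtain ⟨l, hl⟩ := exists_glue (top (G ⧸ V)) (fun a ha b hb => top_comm ha hb) σ hσ1 hσmul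
  refine ⟨l, fun x hxtop hxl => ?_⟩
  have hxfix : σ (x : G ⧸ V) l = l := by
    rw [hσ]
    exact (TwoDeg.mem_St V).mp ((TwoDeg.St V l).inv_mem hxl)
  -- every primary part of `x` is trivial
  have hq : ∀ q : ℕ, q.Prime → (x : G ⧸ V) ^ ordCompl[q] N = 1 := by
    intro q hqp
    set y : G ⧸ V := (x : G ⧸ V) ^ ordCompl[q] N with hy
    have hytop : y ∈ top (G ⧸ V) := pow_mem hxtop _
    have hyq : y ^ ordProj[q] N = 1 := by
      rw [hy, ← pow_mul, mul_comm, Nat.ordProj_mul_ordCompl_eq_self]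
      exact pow_card_eq_one'
    have hfixq : ∀ k : V →* ℂˣ, σ y (k ^ ordProj[q] n) = k ^ ordProj[q] n := hl _ hxtop hxfix q hqp
    -- so `y` centralises `D = V ^ (q-part)`
    set D : Subgroup G := (powMonoidHom (α := V) (ordProj[q] n)).range.map V.subtype with hD
    have hDV : D ≤ V := map_subtype_le _
    haveI hDn : D.Normal := by
      refine ⟨?_⟩
      rintro _ ⟨_, ⟨v, rfl⟩, rfl⟩ g
      refine ⟨_, ⟨⟨g * v * g⁻¹, Normal.conj_mem inferInstance _ v.2 g⟩, rfl⟩, ?_⟩
      simp [powMonoidHom_apply, conj_pow]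
    let B : Subgroup (G ⧸ V) :=
      { carrier := {z | z ∈ top (G ⧸ V) ∧ z ^ ordProj[q] N = 1}
        one_mem' := ⟨one_mem _, one_pow _⟩
        mul_mem' := fun {a b} ha hb => ⟨mul_mem ha.1 hb.1, by
          have hc : Commute a b := top_comm ha.1 hb.1
          rw [hc.mul_pow, ha.2, hb.2, one_mul]⟩
        inv_mem' := fun {a} ha => ⟨inv_mem ha.1, by rw [inv_pow, ha.2, inv_one]⟩ }
    haveI hBn : B.Normal := ⟨fun a ha g => ⟨Normal.conj_mem inferInstance a ha.1 g, by
      rw [conj_pow, ha.2, mul_one, mul_inv_cancel]⟩⟩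
    set M := B.comap (QuotientGroup.mk' V) ⊓ centralizer (D : Set G) with hM
    haveI : M.Normal := normal_inf_normal _ _
    have hVM : V ≤ M := by
      refine le_inf (fun v hv => ?_) (fun v hv => mem_centralizer_iff.mpr fun d hd => ?_)
      · show (QuotientGroup.mk' V v) ∈ B
        rw [QuotientGroup.mk'_apply, (QuotientGroup.eq_one_iff v).mpr hv]
        exact one_mem B
      · exact congrArg Subtype.val (hVc ⟨d, hDV hd⟩ ⟨v, hv⟩)
    have hMnil : Group.IsNilpotent M := by
      haveI : (D.subgroupOf M).Normal := inferInstance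
      haveI := Fact.mk hqp
      have hp : IsPGroup q (M ⧸ D.subgroupOf M) := by
        intro z
        induction z using QuotientGroup.induction_on with | _ z =>
        refine ⟨N.factorization q + n.factorization q, ?_⟩
        rw [← QuotientGroup.mk_pow, QuotientGroup.eq_one_iff, mem_subgroupOf,
          SubmonoidClass.coe_pow, pow_add, pow_mul]
        have hzV : (z : G) ^ ordProj[q] N ∈ V := by
          rw [← QuotientGroup.eq_one_iff, QuotientGroup.mk_pow]
          exact z.2.1.2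
        exact ⟨_, ⟨⟨_, hzV⟩, rfl⟩, rfl⟩
      haveI := hp.isNilpotent
      refine Subgroup.isNilpotent_of_ker_le_center (QuotientGroup.mk' (D.subgroupOf M)) ?_
      rw [QuotientGroup.ker_mk']
      intro d hd
      rw [mem_center_iff]
      intro z
      exact Subtype.ext (mem_centralizer_iff.mp z.2.2 d hd).symm
    have hMV : M ≤ V := hnil M inferInstance hMnil
    obtain ⟨g, hg⟩ := QuotientGroup.mk_surjective y
    suffices g ∈ M by
      rw [← hg]
      exact (QuotientGroup.eq_one_iff g).mpr (hMV this)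
    refine ⟨?_, mem_centralizer_iff.mpr ?_⟩
    · show QuotientGroup.mk g ∈ B
      rw [hg]
      exact ⟨hytop, hyq⟩
    · rintro _ ⟨_, ⟨v, rfl⟩, rfl⟩
      set v' : V := ⟨g⁻¹ * v * g⁻¹⁻¹, Normal.conj_mem inferInstance _ v.2 _⟩ with hv'
      have hvv : v' ^ ordProj[q] n = v ^ ordProj[q] n := by
        by_contra hne
        obtain ⟨k, hk⟩ := CommGroup.exists_apply_ne_one_of_hasEnoughRootsOfUnity V ℂ
          (a := v' ^ ordProj[q] n / v ^ ordProj[q] n) (by rwa [Ne, div_eq_one])
        apply hk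
        have h := hfixq k
        rw [← hg, hσ] at h
        have h2 := DFunLike.congr_fun h v
        rw [TwoDeg.act_apply, MonoidHom.pow_apply, MonoidHom.pow_apply] at h2
        rw [map_div, map_pow, map_pow, div_eq_one]
        exact h2
      have h3 := congrArg Subtype.val hvv
      simp only [hv', SubmonoidClass.coe_pow, conj_pow, inv_inv] at h3
      show (v : G) ^ ordProj[q] n * g = g * (v : G) ^ ordProj[q] n
      have h4 : g⁻¹ * (v : G) ^ ordProj[q] n * g = (v : G) ^ ordProj[q] n := by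
        have h5 := conj_pow (i := ordProj[q] n) (a := g⁻¹) (b := (v : G))
        rw [inv_inv] at h5
        rw [← h5]
        exact h3
      conv_rhs => rw [← h4]
      simp only [mul_assoc, mul_inv_cancel_left]
  -- so `x` is trivial modulo `V`
  rw [← QuotientGroup.eq_one_iff, ← orderOf_eq_one_iff]
  by_contra he
  obtain ⟨q, hqp, hqd⟩ := Nat.exists_prime_and_dvd he
  exact Nat.not_dvd_ordCompl hqp hN0 (hqd.trans (orderOf_dvd_of_pow_eq_one (hq q hqp)))

end Cfsg.Agent.CT.BrolineGarrison
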