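import Cfsg.Agent.Lib.CT.BrolineGarrison.Regular
import Cfsg.Agent.Lib.CT.BrolineGarrison.NonNilp
import Cfsg.Agent.Lib.Basics.Frattini

/-! Broline–Garrison: the kernel is the Fitting subgroup and the quotient is solvable. -/

set_option autoImplicit false
set_option linter.style.haveILetI false

namespace Cfsg.Agent.CT.BrolineGarrison

open scoped ComplexConjugate commutatorElement
open Cfsg Subgroup

open Garrison (constituent_const isIrr_lin_mul)

universe u

variable {G : Type u} [Group G] [Finite G]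

/-- A normal abelian subgroup meeting the Frattini subgroup trivially is complemented. -/
theorem exists_compl (M : Subgroup G) [M.Normal] (hMc : ∀ a b : M, a * b = b * a)
    (hΦ : frattini G = ⊥) : ∃ U : Subgroup G, M.IsComplement' U := by
  classical
  obtain ⟨U, hU, hmin⟩ : ∃ U : Subgroup G, U ⊔ M = ⊤ ∧ ∀ W < U, W ⊔ M ≠ ⊤ := by
    obtain ⟨U, hU, hmin⟩ := (Set.toFinite {U : Subgroup G | U ⊔ M = ⊤}).exists_minimal
      ⟨⊤, top_sup_eq M⟩
    exact ⟨U, hU, fun W hW h => absurd (hmin h hW.le) hW.not_ge⟩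
  have hn : (U ⊓ M).Normal := by
    rw [← normalizer_eq_top_iff, eq_top_iff, ← hU, sup_le_iff]
    refine ⟨fun h hh => ?_, fun m hm => ?_⟩
    · rw [mem_normalizer_iff]
      intro x
      refine ⟨fun hx => ⟨U.mul_mem (U.mul_mem hh hx.1) (U.inv_mem hh),
        Normal.conj_mem inferInstance _ hx.2 _⟩, fun hx => ?_⟩
      refine ⟨?_, ?_⟩
      · have := U.mul_mem (U.mul_mem (U.inv_mem hh) hx.1) hh
        simpa [mul_assoc] using this
      · have := Normal.conj_mem (inferInstance : M.Normal) _ hx.2 h⁻¹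
        simpa [mul_assoc] using this
    · rw [mem_normalizer_iff]
      intro x
      have key : ∀ y ∈ M, m * y * m⁻¹ = y := fun y hy => by
        have h2 : m * y = y * m := congrArg Subtype.val (hMc ⟨m, hm⟩ ⟨y, hy⟩)
        rw [h2, mul_inv_cancel_right]
      refine ⟨fun hx => by rwa [key x hx.2], fun hx => ?_⟩
      have hxM : x ∈ M := by
        have := M.mul_mem (M.mul_mem (M.inv_mem hm) hx.2) hm
        simpa [mul_assoc] using this
      rwa [key x hxM] at hx
  haveI := hn
  have hle : (U ⊓ M).subgroupOf U ≤ frattini U := by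
    refine le_iInf₂ fun W hW => ?_
    by_contra hne
    have hsup := Basics.le_of_not_le_sup_eq_top hW hne
    have hlt : W.map U.subtype < U := by
      refine lt_of_le_of_ne (map_subtype_le _) fun e => hW.1 ?_
      apply map_injective U.subtype_injective
      rw [e, ← MonoidHom.range_eq_map, range_subtype]
    refine hmin _ hlt (eq_top_iff.mpr (hU ▸ sup_le ?_ le_sup_right))
    have h1 := congrArg (Subgroup.map U.subtype) hsup
    rw [Subgroup.map_sup, ← MonoidHom.range_eq_map, range_subtype] at h1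
    rw [map_subgroupOf_eq_of_le inf_le_left] at h1
    calc U = W.map U.subtype ⊔ (U ⊓ M) := h1.symm
      _ ≤ _ := sup_le_sup_left inf_le_right _
  have hbot : U ⊓ M = ⊥ :=
    le_bot_iff.mp (hΦ ▸ Basics.le_frattini_of_le_frattini_subgroup inf_le_left hle)
  refine ⟨U, isComplement'_of_disjoint_and_mul_eq_univ (disjoint_iff.mpr (by rwa [inf_comm])) ?_⟩
  rw [← normal_mul, sup_comm, hU, coe_top]

/-- The solvable case, after factoring out the Frattini subgroup. -/
theorem exists_larger_aux [Group.IsSolvable G] {χ : G → ℂ} (hχ : IsIrrCharacter G χ)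
    (M : Subgroup G) [M.Normal] (hK : ∀ g : G, g ∈ M ↔ χ g = χ 1)
    (hMc : ∀ a b : M, a * b = b * a) (hΦ : frattini G = ⊥) (htop : M ≠ ⊤)
    (hnil : ∀ N : Subgroup G, N.Normal → Group.IsNilpotent N → N ≤ M) :
    ∃ ψ : IrrCharacter G, CT.deg χ < CT.deg (ψ : G → ℂ) ∧ CT.kerChar (ψ : G → ℂ) < M := by
  classical
  haveI := Fintype.ofFinite G
  obtain ⟨l, hl⟩ := exists_lambda M hMc hnil
  obtain ⟨U, hMU⟩ := exists_compl M hMc hΦ
  set Y := (top (G ⧸ M)).comap (QuotientGroup.mk' M) with hY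
  haveI := top_normal (G ⧸ M)
  haveI hYn : Y.Normal := inferInstanceAs ((top (G ⧸ M)).comap _).Normal
  have hMY : M ≤ Y := fun m hm => by
    show (QuotientGroup.mk m : G ⧸ M) ∈ top (G ⧸ M)
    rw [(QuotientGroup.eq_one_iff m).2 hm]
    exact one_mem _
  have hYM : ¬ Y ≤ M := by
    intro h
    have : (⊤ : Subgroup (G ⧸ M)) ≠ ⊥ := by
      intro e
      refine htop (eq_top_iff.mpr fun g _ => ?_)
      rw [← QuotientGroup.eq_one_iff, ← mem_bot, ← e]
      trivial
    obtain ⟨x, -, hx, hx1⟩ := exists_inf_top_ne_bot this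
    obtain ⟨g, rfl⟩ := QuotientGroup.mk_surjective x
    exact hx1 ((QuotientGroup.eq_one_iff g).2 (h hx))
  set T := TwoDeg.St M l with hT
  have hVT : M ≤ T := TwoDeg.le_St M hMc l
  have hMT : M ≤ T := hVT
  set A := Y ⊓ U with hA
  have hAT : ∀ a ∈ A, a ∈ T → a = 1 := fun a ha haT =>
    mem_bot.mp (hMU.disjoint.eq_bot ▸ (⟨hl a ha.1 haT, ha.2⟩ : a ∈ M ⊓ U))
  -- decomposition of elements
  have hdec : ∀ g : G, ∃ m : M, (m : G)⁻¹ * g ∈ U := fun g => by
    obtain ⟨⟨m, h⟩, he⟩ := hMU.2 g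
    exact ⟨m, by rw [← he]; simp⟩
  choose μ hμ using hdec
  have huniq : ∀ (g : G) (m : M), (m : G)⁻¹ * g ∈ U → μ g = m := by
    intro g m hm
    refine Subtype.ext (inv_mul_eq_one.mp (mem_bot.mp (hMU.disjoint.eq_bot ▸ (⟨?_, ?_⟩ :
      ((μ g : G))⁻¹ * m ∈ M ⊓ U))))
    · exact M.mul_mem (M.inv_mem (μ g).2) m.2
    · have := U.mul_mem (hμ g) (U.inv_mem hm)
      simpa [mul_assoc] using this
  let lh : T →* ℂˣ := MonoidHom.mk' (fun t => l (μ t)) fun s t => by
    have hs' : ((μ (s : G) : G))⁻¹ * s ∈ T := T.mul_mem (T.inv_mem (hVT (μ _).2)) s.2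
    set u := ((μ (s : G) : G))⁻¹ * s with hu
    have he : μ ((s : G) * t) = μ s * ⟨u * μ t * u⁻¹,
        Subgroup.Normal.conj_mem inferInstance _ (μ _).2 _⟩ := by
      refine huniq _ _ ?_
      have := U.mul_mem (hμ s) (hμ t)
      simp only [Subgroup.coe_mul, hu]
      simpa [mul_assoc] using this
    show l (μ ((s : G) * t)) = l (μ s) * l (μ t)
    rw [he, map_mul, ← TwoDeg.act_apply M u l, (TwoDeg.mem_St M).mp hs']
  have hlh : ∀ m : M, lh ⟨m, hVT m.2⟩ = l m := fun m => by
    show l (μ m) = l m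
    rw [huniq m m (by simp)]
  have hχM : ∀ m ∈ M, χ m = χ 1 := fun m hm => (hK m).mp hm
  obtain ⟨θ, hθ⟩ := CT.exists_constituent_restrict T hχ
  have hχT := CT.isCharacter_restrict T (CT.isCharacter_of_isIrr hχ)
  have hθM : ∀ m : M, (θ : T → ℂ) ⟨m, hMT m.2⟩ = (θ : T → ℂ) 1 := fun m =>
    constituent_const hχT θ.2 hθ (hχM m m.2)
  set φ : T → ℂ := fun t => (lh t : ℂ) * (θ : T → ℂ) t with hφdef
  have hφ : IsIrrCharacter T φ := isIrr_lin_mul lh θ.2
  have hlam : IsIrrCharacter M (fun m => (l m : ℂ)) := CT.isIrrCharacter_lin l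
  obtain ⟨ψ, hψ⟩ := CT.exists_constituent (CT.isCharacter_indFun T (CT.isCharacter_of_isIrr hφ))
    (fun h => by
      have := congrFun h 1
      rw [CT.indFun_one_eval, Pi.zero_apply] at this
      exact mul_ne_zero (Nat.cast_ne_zero.mpr Subgroup.index_ne_zero_of_finite)
        (CT.irr_one_ne_zero hφ) this)
  have hψT := CT.isCharacter_restrict T (CT.isCharacter_of_isIrr ψ.2)
  rw [CT.frobenius_reciprocity T φ (CT.isClassFunction_of_isIrr ψ.2),
    CT.classInner_comm_of_char (CT.isCharacter_of_isIrr hφ) hψT] at hψ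
  have hk : 1 ≤ CT.mult (fun t : T => (ψ : G → ℂ) t) φ := by
    rw [Nat.one_le_iff_ne_zero]
    intro h
    exact hψ (by rw [CT.mult_spec hψT (CT.isCharacter_of_isIrr hφ), h, Nat.cast_zero])
  have hR := CT.isCharacter_sub_constituent hψT hφ hk
  rw [Nat.cast_one, one_smul] at hR
  let ι : M →* T := Subgroup.inclusion hMT
  have hRM := CT.isCharacter_comp ι hR
  have hψM := CT.isCharacter_restrict M (CT.isCharacter_of_isIrr ψ.2)
  have hinner : classInner (fun m : M => (ψ : G → ℂ) m) (fun m => (l m : ℂ)) =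
      (θ : T → ℂ) 1 + classInner ((fun t : T => (ψ : G → ℂ) t) - φ ∘ id |> fun R => fun m => R (ι m))
        (fun m => (l m : ℂ)) := by
    have e : (fun m : M => (ψ : G → ℂ) m) = (θ : T → ℂ) 1 • (fun m : M => (l m : ℂ)) +
        fun m => ((fun t : T => (ψ : G → ℂ) t) - φ) (ι m) := by
      funext m
      show (ψ : G → ℂ) m = (θ : T → ℂ) 1 * (l m : ℂ) + ((ψ : G → ℂ) m - φ (ι m))
      have : φ (ι m) = (θ : T → ℂ) 1 * (l m : ℂ) := by
        show (lh ⟨m, hMT m.2⟩ : ℂ) * (θ : T → ℂ) ⟨m, hMT m.2⟩ = _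
        rw [hlh, hθM, mul_comm]
      rw [this]; ring
    conv_lhs => rw [e]
    rw [CT.classInner_add_left, CT.classInner_smul_left, CT.irr_inner_self hlam, mul_one]
    rfl
  have hge : CT.deg (θ : T → ℂ) ≤ CT.mult (fun m : M => (ψ : G → ℂ) m) (fun m => (l m : ℂ)) := by
    rw [CT.mult_spec hψM (CT.isCharacter_of_isIrr hlam)] at hinner
    have h1 := congrArg Complex.re hinner
    have h2 := CT.classInner_re_nonneg hRM (CT.isCharacter_of_isIrr hlam)
    rw [Complex.add_re, CT.deg_eq (CT.isCharacter_of_isIrr θ.2), Complex.natCast_re,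
      Complex.natCast_re] at h1
    have : (CT.deg (θ : T → ℂ) : ℝ) ≤ CT.mult (fun m : M => (ψ : G → ℂ) m) (fun m => (l m : ℂ)) := by
      rw [h1]
      exact le_add_of_nonneg_right h2
    exact_mod_cast this
  have hdegθ := CT.deg_pos θ.2
  have hmne : classInner (fun m : M => (ψ : G → ℂ) m) (fun m => (l m : ℂ)) ≠ 0 := by
    rw [CT.mult_spec hψM (CT.isCharacter_of_isIrr hlam), Nat.cast_ne_zero]
    omega
  have hcm := CT.clifford_mult M ψ.2 hlam hmne
  rw [TwoDeg.inertia_eq_St M l, ← hT] at hcm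
  have hdl : CT.deg (fun m : M => (l m : ℂ)) = 1 := by simp [CT.deg]
  rw [hdl, mul_one] at hcm
  -- the kernel of `ψ`
  have hLV : CT.kerChar (ψ : G → ℂ) < M := by
    set L := CT.kerChar (ψ : G → ℂ) with hL
    haveI : L.Normal := normal_kerChar ψ.2
    have hψc := CT.isCharacter_of_isIrr ψ.2
    have hker : ∀ m : M, (m : G) ∈ L → l m = 1 := fun m hm => by
      have h := Garrison.constituent_const hψM hlam hmne (m := m)
        ((CT.mem_kerChar_iff hψc).mp hm)
      simp only [map_one, Units.val_one] at h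
      exact Units.ext h
    have hLT : L ≤ T := by
      intro g hg
      rw [hT, TwoDeg.mem_St]
      ext m
      congr 1
      rw [TwoDeg.act_apply]
      set c : M := m⁻¹ * ⟨g * m * g⁻¹, Normal.conj_mem inferInstance _ m.2 _⟩ with hc
      have hc1 : l c = 1 := hker c (by
        show (m : G)⁻¹ * (g * m * g⁻¹) ∈ L
        have := L.mul_mem ((normal_kerChar ψ.2).conj_mem g hg (m : G)⁻¹) (L.inv_mem hg)
        simpa [mul_assoc] using this)
      rw [hc, map_mul, map_inv, inv_mul_eq_one] at hc1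
      exact hc1.symm
    have hLM : L ≤ M := by
      by_contra hne
      haveI : (L.map (QuotientGroup.mk' M)).Normal :=
        Normal.map inferInstance _ (QuotientGroup.mk'_surjective M)
      have h1 : L.map (QuotientGroup.mk' M) ≠ ⊥ := by
        rwa [Ne, Subgroup.map_eq_bot_iff, QuotientGroup.ker_mk']
      obtain ⟨x, ⟨g, hg, hgx⟩, hx, hx1⟩ := exists_inf_top_ne_bot h1
      subst hgx
      exact hx1 ((QuotientGroup.eq_one_iff g).2 (hl g hx (hLT hg)))
    refine lt_of_le_of_ne hLM fun e => hYM fun y hy => hl y hy ?_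
    rw [hT, TwoDeg.mem_St]
    ext m
    congr 1
    rw [TwoDeg.act_apply, hker _ (e.ge (Normal.conj_mem inferInstance _ m.2 _)), hker m (e.ge m.2)]
  refine ⟨ψ, ?_, hLV⟩
  by_contra hcon
  push Not at hcon
  have hle : T.index * CT.deg (θ : T → ℂ) ≤ CT.deg χ := by
    refine le_trans ?_ hcon
    rw [hcm, mul_comm]
    exact Nat.mul_le_mul_right _ hge
  have hind := CT.isCharacter_indFun T (CT.isCharacter_of_isIrr θ.2)
  have hχi : indFun T (θ : T → ℂ) = χ := by
    refine CT.eq_of_deg_le hind hχ ?_ ?_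
    · rwa [CT.frobenius_reciprocity T _ (CT.isClassFunction_of_isIrr hχ),
        CT.classInner_comm_of_char (CT.isCharacter_of_isIrr θ.2) hχT]
    · refine le_trans (le_of_eq ?_) hle
      have h := CT.deg_eq hind
      rw [CT.indFun_one_eval, CT.deg_eq (CT.isCharacter_of_isIrr θ.2)] at h
      exact_mod_cast h.symm
  have hvan : ∀ y ∈ Y, y ∉ M → χ y = 0 := by
    intro y hy hyM
    rw [← hχi]
    refine CT.indFun_eq_zero_of_not_conj_mem T _ fun x hxT => hyM ?_
    set y' := x⁻¹ * y * x with hy'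
    have hy'Y : y' ∈ Y := hYn.conj_mem' y hy x
    have h1 : ((μ y' : G))⁻¹ * y' ∈ T := T.mul_mem (T.inv_mem (hMT (μ y').2)) hxT
    have h2 : ((μ y' : G))⁻¹ * y' ∈ A := ⟨Y.mul_mem (Y.inv_mem (hMY (μ y').2)) hy'Y, hμ y'⟩
    have h3 : y' ∈ M := by
      have e : (μ y' : G) = y' := inv_mul_eq_one.mp (hAT _ h2 h1)
      exact e ▸ (μ y').2
    have := Subgroup.Normal.conj_mem (inferInstance : M.Normal) y' h3 x
    simpa [hy', mul_assoc] using this
  have hχY := CT.isCharacter_restrict Y (CT.isCharacter_of_isIrr hχ)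
  have h1Y : classInner (fun y : Y => χ y) (fun _ => 1) =
      (Nat.card Y : ℂ)⁻¹ * ((Nat.card (M.subgroupOf Y) : ℂ) * χ 1) := by
    simp only [classInner, map_one, mul_one]
    congr 1
    rw [show (Nat.card (M.subgroupOf Y) : ℂ) * χ 1 =
      ∑ y : Y, if y ∈ M.subgroupOf Y then χ 1 else 0 by
        rw [← Finset.sum_filter, Finset.sum_const, nsmul_eq_mul, ← Fintype.card_subtype,
          ← Nat.card_eq_fintype_card]]
    refine Finset.sum_congr rfl fun y _ => ?_
    split_ifs with h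
    · exact hχM _ h
    · exact hvan _ y.2 h
  have hne1 : classInner (fun y : Y => χ y) (fun _ => 1) ≠ 0 := by
    rw [h1Y]
    exact mul_ne_zero (inv_ne_zero (Nat.cast_ne_zero.mpr Nat.card_pos.ne'))
      (mul_ne_zero (Nat.cast_ne_zero.mpr Nat.card_pos.ne') (CT.irr_one_ne_zero hχ))
  have hres := CT.restrict_eq_smul_of_invariant Y hχ CT.isIrrCharacter_one hne1 (fun g => rfl)
  obtain ⟨y, hy, hyM⟩ := SetLike.not_le_iff_exists.mp hYM
  have h2 := congrFun hres ⟨y, hy⟩
  simp only [Pi.smul_apply, smul_eq_mul, mul_one, hvan y hy hyM] at h2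
  exact hne1 h2.symm


theorem exists_larger_of_fitting [Group.IsSolvable G] {χ : G → ℂ} (hχ : IsIrrCharacter G χ)
    (K : Subgroup G) [K.Normal] (hK : ∀ g : G, g ∈ K ↔ χ g = χ 1)
    (hKF : K = Cfsg.fittingSubgroup G) (htop : K ≠ ⊤) :
    ∃ ψ : IrrCharacter G, CT.deg χ < CT.deg (ψ : G → ℂ) ∧ CT.kerChar (ψ : G → ℂ) < K := by
  classical
  set Φ := frattini G with hΦdef
  have hΦK : Φ ≤ K := hKF ▸ Basics.frattini_le_fittingSubgroup
  set π := QuotientGroup.mk' Φ with hπ
  have hπs : Function.Surjective π := QuotientGroup.mk'_surjective Φ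
  haveI : (K.map π).Normal := Normal.map inferInstance _ hπs
  have hcomap : (K.map π).comap π = K := by
    rw [comap_map_eq, hπ, QuotientGroup.ker_mk', sup_eq_left.mpr hΦK]
  obtain ⟨χ', hχ', hχ'eq⟩ := CT.exists_quotient_irr hχ Φ fun k hk => (hK k).mp (hΦK hk)
  have hK' : ∀ x : G ⧸ Φ, x ∈ K.map π ↔ χ' x = χ' 1 := by
    intro x
    obtain ⟨g, rfl⟩ := hπs x
    rw [← QuotientGroup.mk_one, show π g = (g : G ⧸ Φ) from rfl, hχ'eq, hχ'eq, ← hK g]
    exact (SetLike.ext_iff.mp hcomap g)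
  have hcomm : ∀ a b : K.map π, a * b = b * a := by
    rintro ⟨_, a, ha, rfl⟩ ⟨_, b, hb, rfl⟩
    apply Subtype.ext
    haveI : Group.IsNilpotent K := by rw [hKF]; infer_instance
    have h : ⁅(⟨a, ha⟩ : K), ⟨b, hb⟩⁆ ∈ frattini K := Basics.commutator_le_frattini
      (by rw [_root_.commutator_def]; exact commutator_mem_commutator (mem_top _) (mem_top _))
    have h1 : ⁅a, b⁆ ∈ Φ := Basics.map_frattini_le K ⟨_, h, map_commutatorElement K.subtype _ _⟩
    have h2 : ⁅π a, π b⁆ = 1 := by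
      rw [← map_commutatorElement]
      exact (QuotientGroup.eq_one_iff _).2 h1
    exact commutatorElement_eq_one_iff_mul_comm.mp h2
  have hΦ' : frattini (G ⧸ Φ) = ⊥ := by
    rw [← comap_injective hπs |>.eq_iff, MonoidHom.comap_bot, hπ, QuotientGroup.ker_mk']
    refine le_antisymm (le_iInf₂ fun W hW => ?_) ?_
    · have hΦW : Φ ≤ W := frattini_le_coatom hW
      have hcW : (W.map π).comap π = W := by
        rw [comap_map_eq, hπ, QuotientGroup.ker_mk', sup_eq_left.mpr hΦW]
      have hco : IsCoatom (W.map π) := by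
        refine ⟨fun h => hW.1 ?_, fun X hX => ?_⟩
        · rw [← hcW, h, comap_top]
        · have hlt : W < X.comap π := by
            rw [← hcW]
            exact (comap_lt_comap_of_surjective hπs).mpr hX
          rw [← map_comap_eq_self_of_surjective hπs X, hW.2 _ hlt, map_top_of_surjective π hπs]
      exact (comap_mono (frattini_le_coatom hco)).trans hcW.le
    · intro g hg
      show (g : G ⧸ Φ) ∈ frattini (G ⧸ Φ)
      rw [(QuotientGroup.eq_one_iff g).2 hg]
      exact one_mem _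
  have hnil : ∀ N : Subgroup (G ⧸ Φ), N.Normal → Group.IsNilpotent N → N ≤ K.map π := by
    intro N hN hNn
    haveI := hN
    have h1 : Group.IsNilpotent (N.comap π) := Basics.isNilpotent_of_map_quotient _ Φ le_rfl
      (by rwa [map_comap_eq_self_of_surjective hπs N])
    rw [← map_comap_eq_self_of_surjective hπs N, hKF]
    exact map_mono (Basics.le_fittingSubgroup h1)
  have htop' : K.map π ≠ ⊤ := fun h => htop (by rw [← hcomap, h, comap_top])
  obtain ⟨⟨ψ, hψ⟩, hd, hker⟩ := exists_larger_aux hχ' (K.map π) hK' hcomm hΦ' htop' hnil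
  have hdχ : CT.deg χ = CT.deg χ' := by simp [CT.deg, ← hχ'eq]
  have hψG := CT.isIrr_inflate Φ hψ (χ := fun g : G => ψ (g : G ⧸ Φ)) (fun g => rfl)
  refine ⟨⟨_, hψG⟩, ?_, ?_⟩
  · rw [hdχ]
    exact hd
  · have he : CT.kerChar (fun g : G => ψ (g : G ⧸ Φ)) = (CT.kerChar ψ).comap π := by
      ext g
      rw [CT.mem_kerChar_iff (CT.isCharacter_of_isIrr hψG), mem_comap,
        CT.mem_kerChar_iff (CT.isCharacter_of_isIrr hψ)]
      rfl
    show CT.kerChar (fun g : G => ψ (g : G ⧸ Φ)) < K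
    rw [he, ← hcomap]
    exact (comap_lt_comap_of_surjective hπs).mpr hker

end Cfsg.Agent.CT.BrolineGarrison
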